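import Mathlib
import Cfsg.Agent.H502.TO.Main
import Cfsg.Agent.H723.Spor.Th
import Cfsg.Agent.BpSpor.ThThree
import Cfsg.Agent.H865.NH.Th

/-!
# Centralizers in the Thompson group (helper491, for S4826)

* `card_nineteen` : `|C(y)| = 19` for `y` of order 19;
* `card_seven` : `|C(y)| = 7 * 168` for `y` of order 7;
* `card_thirtyone` : `|C(y)| = 31` for `y` of order 31.
-/

set_option autoImplicit false
set_option maxRecDepth 100000

namespace Cfsg.Agent.H491.PB.Th

open Subgroup Cfsg Cfsg.Agent.H502.TO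
open Cfsg.Agent.Th.IndexUpper (gTh)

/-! ### Order 13 -/

theorem arith13' : (List.range 8).all (fun i1 => (List.range 3).all fun i2 => (List.range 2).all fun i3 => (List.range 2).all fun i4 =>
    !(decide ((3 ^ i1 * 7 ^ i2 * 13 ^ i3 * 19 ^ i4 * 12) ∣ 90745943887872000)) ||
    !(decide ((90745943887872000 / (3 ^ i1 * 7 ^ i2 * 13 ^ i3 * 19 ^ i4 * 12)) % 13 = 1)) ||
      !(decide (13 ∣ 3 ^ i1 * 7 ^ i2 * 13 ^ i3 * 19 ^ i4)) || (decide (i2 ≤ 1) && (decide (i4 = 0) || (decide (i1 ≤ 6) && decide (i2 = 1))))) = true := by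
  decide +kernel

theorem arith13 {i1 i2 i3 i4 : ℕ} (h1 : i1 ≤ 7) (h2 : i2 ≤ 2) (h3 : i3 ≤ 1) (h4 : i4 ≤ 1) 
    (h5 : (3 ^ i1 * 7 ^ i2 * 13 ^ i3 * 19 ^ i4 * 12) ∣ 90745943887872000)
    (h6 : (90745943887872000 / (3 ^ i1 * 7 ^ i2 * 13 ^ i3 * 19 ^ i4 * 12)) % 13 = 1)
    (h7 : 13 ∣ 3 ^ i1 * 7 ^ i2 * 13 ^ i3 * 19 ^ i4) : i2 ≤ 1 ∧ (i4 = 0 ∨ (i1 ≤ 6 ∧ i2 = 1)) := by
  have h := arith13'
  rw [List.all_eq_true] at h
  have k1 := h i1 (List.mem_range.2 (by omega))
  rw [List.all_eq_true] at k1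
  have k2 := k1 i2 (List.mem_range.2 (by omega))
  rw [List.all_eq_true] at k2
  have k3 := k2 i3 (List.mem_range.2 (by omega))
  rw [List.all_eq_true] at k3
  have k4 := k3 i4 (List.mem_range.2 (by omega))
  simpa [h5, h6, h7] using k4

/-- the centralizer of an element of order 13 -/
theorem thirteen {z : Spor.Th} (hz : orderOf z = 13) :
    ¬ 49 ∣ Nat.card (centralizer ({z} : Set Spor.Th)) ∧ (19 ∣ Nat.card (centralizer ({z} : Set Spor.Th)) →
      ∃ i ≤ 6, Nat.card (centralizer ({z} : Set Spor.Th)) = 3 ^ i * 7 * 13 * 19) := by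
  have := fin_th
  have hcard := card_th
  obtain ⟨y', g, hy', hg⟩ := exists_thirteen
  have hrr : ¬ 13 ^ 2 ∣ Nat.card Spor.Th := by rw [hcard]; norm_num
  rw [card_cent_eq (by norm_num) hrr hy' hz]
  obtain ⟨hN, n, hn, hG⟩ := sylow_eq (r := 13) (by norm_num) hrr hy' hg ord6
  set c := Nat.card (centralizer ({y'} : Set Spor.Th)) with hc
  have h2 : ¬ 2 ∣ c := odd_cent (by norm_num) (by norm_num) hy'
  have h5 : ¬ 5 ∣ c := not_dvd_five (by norm_num) (by norm_num) hy'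
  have h31 : ¬ 31 ∣ c := by
    intro h
    obtain ⟨z, hz, hd⟩ := dvd_symm (by norm_num) h
    rw [hy'] at hd
    exact (thirtyone hz).1 hd
  have h38 : ¬ 3 ^ 8 ∣ c := no_38 (Or.inl rfl) hy'
  have hcG : c ∣ 90745943887872000 := by rw [← hcard]; exact Subgroup.card_subgroup_dvd_card _
  have k1 : c ∣ (3 ^ 10 * 7 ^ 2 * 13 * 19 * 31 * 5 ^ 3) * 2 ^ 15 := hcG.trans (by norm_num)
  have k2 : c ∣ (3 ^ 10 * 7 ^ 2 * 13 * 19 * 31) * 5 ^ 3 := dvd_of_not Nat.prime_two k1 h2
  have k3 : c ∣ (3 ^ 10 * 7 ^ 2 * 13 * 19) * 31 ^ 1 := (dvd_of_not (by norm_num) k2 h5).trans (by norm_num)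
  have k4 : c ∣ (7 ^ 2 * 13 * 19) * 3 ^ 10 := (dvd_of_not (by norm_num) k3 h31).trans (by norm_num)
  have k5 : c ∣ (7 ^ 2 * 13 * 19) * 3 ^ 7 := dvd_of_not_pow (by norm_num) k4 (j := 7) h38
  have k6 : c ∣ 3 ^ 7 * 7 ^ 2 * 13 ^ 1 * 19 ^ 1 := k5.trans (by norm_num)
  obtain ⟨i1, hi1, i2, hi2, i3, hi3, i4, hi4, he⟩ := exists_exp k6
  have h13 : 13 ∣ c := by
    rw [← hy']
    exact dvd_of_comm rfl
  rw [hcard] at hG
  have hn' : (90745943887872000 / (c * 12)) % 13 = 1 := by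
    rw [hG, Nat.mul_div_cancel n (Nat.mul_pos Nat.card_pos (by norm_num))]
    exact hn
  have hd : (c * 12) ∣ 90745943887872000 := ⟨n, by rw [hG, mul_comm]⟩
  rw [he] at hn' h13 hd ⊢
  obtain ⟨h7, h19⟩ := arith13 hi1 hi2 hi3 hi4 hd hn' h13
  have hi31 : i3 = 1 := by
    interval_cases i3
    · exfalso
      rw [pow_zero, mul_one] at h13
      have h := (Nat.Prime.dvd_mul (by norm_num)).1 h13
      rcases h with h | h
      · rcases (Nat.Prime.dvd_mul (by norm_num)).1 h with h | h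
        · exact absurd ((Nat.Prime.dvd_of_dvd_pow (by norm_num)) h) (by norm_num)
        · exact absurd ((Nat.Prime.dvd_of_dvd_pow (by norm_num)) h) (by norm_num)
      · exact absurd ((Nat.Prime.dvd_of_dvd_pow (by norm_num)) h) (by norm_num)
    · rfl
  subst hi31
  constructor
  · intro h
    have h1 : 7 ^ 2 ∣ 7 ^ i2 * (3 ^ i1 * 13 ^ 1 * 19 ^ i4) := by
      refine Dvd.dvd.trans (by norm_num) (h.trans (dvd_of_eq (by ring)))
    have h3 : Nat.Coprime (7 ^ 2) (3 ^ i1 * 13 ^ 1 * 19 ^ i4) := by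
      apply Nat.Coprime.pow_left
      rw [Nat.coprime_mul_iff_right, Nat.coprime_mul_iff_right]
      exact ⟨⟨Nat.Coprime.pow_right _ (by norm_num), by norm_num⟩, Nat.Coprime.pow_right _ (by norm_num)⟩
    have h4 := (Nat.pow_dvd_pow_iff_le_right (by norm_num)).1 (h3.dvd_of_dvd_mul_right h1)
    omega
  · intro h
    rcases h19 with h19 | ⟨h6, h7'⟩
    · exfalso
      subst h19
      rw [pow_zero, mul_one] at h
      rcases (Nat.Prime.dvd_mul (by norm_num)).1 h with h | h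
      · rcases (Nat.Prime.dvd_mul (by norm_num)).1 h with h | h
        · exact absurd ((Nat.Prime.dvd_of_dvd_pow (by norm_num)) h) (by norm_num)
        · exact absurd ((Nat.Prime.dvd_of_dvd_pow (by norm_num)) h) (by norm_num)
      · exact absurd ((Nat.Prime.dvd_of_dvd_pow (by norm_num)) h) (by norm_num)
    · subst h7'
      have hi4' : i4 = 1 := by
        interval_cases i4
        · exfalso
          rw [pow_zero, mul_one] at h
          rcases (Nat.Prime.dvd_mul (by norm_num)).1 h with h | h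
          · rcases (Nat.Prime.dvd_mul (by norm_num)).1 h with h | h
            · exact absurd ((Nat.Prime.dvd_of_dvd_pow (by norm_num)) h) (by norm_num)
            · exact absurd ((Nat.Prime.dvd_of_dvd_pow (by norm_num)) h) (by norm_num)
          · exact absurd ((Nat.Prime.dvd_of_dvd_pow (by norm_num)) h) (by norm_num)
        · rfl
      subst hi4'
      exact ⟨i1, h6, by rw [pow_one, pow_one, pow_one]⟩

/-! ### Order 19 -/

theorem arith19b : ∀ c ∈ [19, 57, 247, 741], (90745943887872000 / (c * 18)) % 19 = 1 → c = 19 ∨ c = 741 := by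
  decide +kernel

theorem arith19c : ∀ i ≤ 6, ∀ j ≤ 3, 3 ^ j ∣ 3 ^ i * 7 → (3 ^ i * 7 / 3 ^ j) % 19 ≠ 1 := by
  decide +kernel

theorem div741 : ∀ c < 742, c ∣ 741 → 19 ∣ c → c ∈ [19, 57, 247, 741] := by decide +kernel

/-- **the centralizer of an element of order 19** -/
theorem card_nineteen {y : Spor.Th} (hy : orderOf y = 19) : Nat.card (centralizer ({y} : Set Spor.Th)) = 19 := by
  have := fin_th
  have hcard := card_th
  have h741 := nineteen hy
  obtain ⟨y', g, hy', hg⟩ := exists_nineteen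
  have hrr : ¬ 19 ^ 2 ∣ Nat.card Spor.Th := by rw [hcard]; norm_num
  have hcc := card_cent_eq (by norm_num) hrr hy' hy
  obtain ⟨hN, n, hn, hG⟩ := sylow_eq (r := 19) (by norm_num) hrr hy' hg ord13
  rw [← hcc] at hG
  set c := Nat.card (centralizer ({y} : Set Spor.Th)) with hc
  have h19 : 19 ∣ c := by
    rw [← hy]
    exact dvd_of_comm rfl
  rw [hcard] at hG
  have hn' : (90745943887872000 / (c * 18)) % 19 = 1 := by
    rw [hG, Nat.mul_div_cancel n (Nat.mul_pos Nat.card_pos (by norm_num))]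
    exact hn
  rcases arith19b c (div741 c (Nat.lt_succ_of_le (Nat.le_of_dvd (by norm_num) h741)) h741 h19) hn' with h | h
  · exact h
  exfalso
  -- an element of order 13 commuting with `y`
  have h13 : 13 ∣ Nat.card (centralizer ({y} : Set Spor.Th)) := by rw [← hc, h]; norm_num
  obtain ⟨z, hzC, hz⟩ := exists_of_dvd (by norm_num) h13
  have hzy := mem_centralizer_singleton_iff.1 hzC
  have hyH : y ∈ centralizer ({z} : Set Spor.Th) := mem_centralizer_singleton_iff.2 hzy.symm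
  obtain ⟨i, hi, hH⟩ := (thirteen hz).2 (by
    have h1 := dvd_of_comm (y := z) (z := y) hzy.symm
    rwa [hy] at h1)
  set H := centralizer ({z} : Set Spor.Th) with hHd
  have h1 : ¬ 19 ^ 2 ∣ Nat.card H := fun h => hrr (h.trans (Subgroup.card_subgroup_dvd_card _))
  obtain ⟨e, m, he, -, hm, hHG⟩ := sylow_gen (G := H) (r := 19) (by norm_num) h1 (y := ⟨y, hyH⟩)
    (by rw [Subgroup.orderOf_mk, hy])
  set d := Nat.card (centralizer ({(⟨y, hyH⟩ : H)} : Set H)) with hd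
  have hd741 : d ∣ 741 := (card_cent_sub hyH).trans (by rw [← hc, h])
  have hd247 : 247 ∣ d := by
    have h2 : 19 ∣ d := by
      have h3 := dvd_of_comm (K := H) (y := ⟨y, hyH⟩) (z := ⟨y, hyH⟩) rfl
      rwa [Subgroup.orderOf_mk, hy] at h3
    have h4 : 13 ∣ d := by
      have h3 := dvd_of_comm (K := H) (y := ⟨y, hyH⟩) (z := ⟨z, mem_centralizer_singleton_iff.2 rfl⟩)
        (Subtype.ext hzy)
      rwa [Subgroup.orderOf_mk, hz] at h3
    exact (Nat.Coprime.mul_dvd_of_dvd_of_dvd (by norm_num : Nat.Coprime 13 19) h4 h2)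
  obtain ⟨d', hd'⟩ := hd247
  have hd3 : d' ∣ 3 := by
    have h5 : 247 * d' ∣ 247 * 3 := by rw [← hd']; exact hd741
    exact Nat.dvd_of_mul_dvd_mul_left (by norm_num) h5
  have hodd : Odd (Nat.card H) := by
    rw [hH]
    exact (((Odd.pow (by decide)).mul (by decide)).mul (by decide)).mul (by decide)
  have heH : e ∣ Nat.card H := by rw [hHG]; exact ⟨m * d, by ring⟩
  have he9 : e ∣ 9 := odd_dvd heH hodd (he.trans (by norm_num))
  obtain ⟨a, ha, rfl⟩ := (Nat.dvd_prime_pow Nat.prime_three).1 (show d' ∣ 3 ^ 1 from hd3)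
  obtain ⟨b, hb, rfl⟩ := (Nat.dvd_prime_pow Nat.prime_three).1 (show e ∣ 3 ^ 2 from he9)
  have h6 : m * 3 ^ (a + b) = 3 ^ i * 7 := by
    have h7 : 247 * (m * 3 ^ (a + b)) = 247 * (3 ^ i * 7) := by
      rw [pow_add]
      calc 247 * (m * (3 ^ a * 3 ^ b)) = m * (247 * 3 ^ a * 3 ^ b) := by ring
        _ = Nat.card H := by rw [← hd', hHG]
        _ = 3 ^ i * 7 * 13 * 19 := hH
        _ = _ := by ring
    exact Nat.eq_of_mul_eq_mul_left (by norm_num) h7
  refine arith19c i hi (a + b) (by omega) ⟨m, by rw [← h6, mul_comm]⟩ ?_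
  rw [← h6, Nat.mul_div_cancel m (by positivity)]
  exact hm

/-! ### Order 7 -/

open Cfsg.Agent.CpAutTh.Data Cfsg.Agent.CpAutTh.Local
open Cfsg.Agent.Th.Word Cfsg.Agent.Th.CStruct Cfsg.Agent.Th.NineAct Cfsg.Agent.Th.Base Cfsg.Agent.Th.RelWords
  Cfsg.Agent.Th.PermTab Cfsg.Agent.Th.KOracle Cfsg.Agent.Th.KPerm
open Cfsg.Agent.KFacts.Th.Mask Cfsg.Agent.KFacts.Th.Struct
open Cfsg.Agent.BpSpor.ThCent (card3 card33 card333)

/-- a Sylow 7-subgroup is abelian of order 49 -/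
theorem dvd_cent_seven {y : Spor.Th} (hy : orderOf y = 7) : 49 ∣ Nat.card (centralizer ({y} : Set Spor.Th)) := by
  have := fin_th
  have : Fact (Nat.Prime 7) := ⟨by norm_num⟩
  obtain ⟨P, hP⟩ := (IsPGroup.of_card (n := 1) (by rw [Nat.card_zpowers, hy, pow_one]) :
    IsPGroup 7 (zpowers y)).exists_le_sylow
  have hPc : Nat.card (P : Subgroup Spor.Th) = 7 ^ 2 := by
    rw [P.card_eq_multiplicity, card_th]
    congr 1
    rw [show (90745943887872000 : ℕ) = 7 ^ 2 * 1851958038528000 by norm_num,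
      Nat.factorization_mul (by norm_num) (by norm_num), Nat.Prime.factorization_pow (by norm_num)]
    simp [Nat.factorization_eq_zero_of_not_dvd (show ¬ 7 ∣ 1851958038528000 by decide)]
  have hcm : IsMulCommutative (P : Subgroup Spor.Th) := IsPGroup.isMulCommutative_of_card_eq_prime_sq hPc
  have hle : (P : Subgroup Spor.Th) ≤ centralizer ({y} : Set Spor.Th) := by
    intro x hx
    rw [mem_centralizer_singleton_iff]
    have h1 := hcm.is_comm.comm (⟨x, hx⟩ : (P : Subgroup Spor.Th)) ⟨y, hP (mem_zpowers y)⟩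
    exact congrArg Subtype.val h1
  have h1 := Subgroup.card_dvd_of_le hle
  rw [hPc] at h1
  norm_num at h1
  exact h1

/-- **the centralizer of an element of order 7** -/
theorem card_seven {y : Spor.Th} (hy : orderOf y = 7) : Nat.card (centralizer ({y} : Set Spor.Th)) = 7 * 168 := by
  have := fin_th
  have h49 := dvd_cent_seven hy
  obtain ⟨g, hg⟩ := H49.ThSeven.dat.one y hy
  rw [← card_cent_conj g y, hg] at h49 ⊢
  rcases H723.Spor.Th.card_seven Cfsg.Agent.KFacts.Th.Main.ctx H723.Spor.Th.hone H49.ThSeven.dat.hx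
    H49.ThSeven.dat.ha H49.ThSeven.dat.ax with h1 | h1
  · exact h1
  · rw [h1] at h49
    norm_num at h49

/-! ### Order 3 and 5 -/

/-- the centralizer of `y` of order 3 which commutes with an element of order 5 is conjugate to `X3` -/
theorem three_of_five {x y : Spor.Th} (hx : orderOf x = 3) (hy : orderOf y = 5) (hxy : x * y = y * x) :
    ∃ g : Spor.Th, g * x * g⁻¹ = ev gTh X3 := by
  have h := KFacts.Th.Main.ctx
  have := h.fin
  obtain ⟨f, F⟩ := exists_epi h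
  have hc := H49.ThFive.c120 h F
  have h3 : 3 ∣ Nat.card ↥(centralizer ({BpSpor.ThCent.sx h c5} : Set ↥(centralizer ({ev gTh X5} : Set Spor.Th)))) :=
    Dvd.dvd.trans (by norm_num) hc
  obtain ⟨t, ht, ht3⟩ := exists_of_dvd Nat.prime_three h3
  have hta := congrArg Subtype.val (mem_centralizer_singleton_iff.1 ht)
  have hX : orderOf (ev gTh X5) = 5 := by
    have := o5 h F
    rwa [Subgroup.orderOf_mk] at this
  obtain ⟨_, x', y', z, a, D⟩ := H49.ThFive.exists_dat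
  obtain ⟨g, hg⟩ := D.all hy
  obtain ⟨k, hk⟩ := D.all hX
  have hg2 : (k⁻¹ * g) * y * (k⁻¹ * g)⁻¹ = ev gTh X5 := by
    calc (k⁻¹ * g) * y * (k⁻¹ * g)⁻¹ = k⁻¹ * (g * y * g⁻¹) * k := by group
      _ = k⁻¹ * (k * ev gTh X5 * k⁻¹) * k := by rw [hg, hk]
      _ = _ := by group
  set m := k⁻¹ * g with hm
  have h1 : m * x * m⁻¹ ∈ centralizer ({ev gTh X5} : Set Spor.Th) := by
    rw [← hg2]
    exact mem_cent_conj (mem_centralizer_singleton_iff.2 hxy)
  have h2 : ¬ 3 ^ 2 ∣ Nat.card ↥(centralizer ({ev gTh X5} : Set Spor.Th)) := by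
    rw [card_five hX]
    norm_num
  have hf3 : Fact (Nat.Prime 3) := ⟨Nat.prime_three⟩
  obtain ⟨c, hc⟩ := CpAutON.Gen.conj_into h2 (x := ⟨m * x * m⁻¹, h1⟩) (y := t)
    (by rw [Subgroup.orderOf_mk, orderOf_conj', hx]) ht3
  obtain ⟨i, hi⟩ := mem_zpowers_iff.1 hc
  have h4 : (t : Spor.Th) ^ i = c * (m * x * m⁻¹) * (c : Spor.Th)⁻¹ := congrArg Subtype.val hi
  have h5 : (t : Spor.Th) * gTh 1 = gTh 1 * t := hta
  have h6 : (t : Spor.Th) ^ i * gTh 1 = gTh 1 * (t : Spor.Th) ^ i := by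
    have : Commute (gTh 1) (t : Spor.Th) := h5.symm
    exact (this.zpow_right i).symm
  have h7 : (t : Spor.Th) ^ i * ev gTh X5 = ev gTh X5 * (t : Spor.Th) ^ i := by
    have : Commute (ev gTh X5) (t : Spor.Th) := (mem_centralizer_singleton_iff.1 t.2).symm
    exact (this.zpow_right i).symm
  have hx3 : orderOf ((t : Spor.Th) ^ i) = 3 := by
    rw [h4, orderOf_conj', orderOf_conj', hx]
  -- `u = t ^ i` in `C(a)`
  set u : Spor.Th := (t : Spor.Th) ^ i with hu
  have hconj : ∀ {d : Spor.Th}, d * u * d⁻¹ = ev gTh X3 → ∃ g : Spor.Th, g * x * g⁻¹ = ev gTh X3 := by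
    intro d hd
    refine ⟨d * c * m, ?_⟩
    rw [← hd, h4]
    group
  have huC : u ∈ sub gTh isC := h.mem_C.2 h6
  have ho : orderOf (⟨u, huC⟩ : sub gTh isC) = 3 := by rw [Subgroup.orderOf_mk, hx3]
  have huX : (⟨u, huC⟩ : sub gTh isC) * ⟨ev gTh X5, ev_mem_sub c5⟩ = ⟨ev gTh X5, ev_mem_sub c5⟩ * ⟨u, huC⟩ :=
    Subtype.ext h7
  -- the other classes
  have hno : ∀ (X : List ℕ) (hX : ∀ x ∈ X, isC x = true) (d : sub gTh isC),
      d * ⟨u, huC⟩ * d⁻¹ = (⟨ev gTh X, ev_mem_sub hX⟩ : sub gTh isC) →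
      5 ∣ Nat.card ↥(centralizer ({pm9 X} : Set (Equiv.Perm (Fin 9)))) := by
    intro X hX d hd
    set v := d * (⟨ev gTh X5, ev_mem_sub c5⟩ : sub gTh isC) * d⁻¹ with hv
    have hvX : v * (⟨ev gTh X, ev_mem_sub hX⟩ : sub gTh isC) = ⟨ev gTh X, ev_mem_sub hX⟩ * v := by
      rw [← hd, hv]
      calc d * (⟨ev gTh X5, ev_mem_sub c5⟩ : sub gTh isC) * d⁻¹ * (d * ⟨u, huC⟩ * d⁻¹) =
          d * ((⟨ev gTh X5, ev_mem_sub c5⟩ : sub gTh isC) * ⟨u, huC⟩) * d⁻¹ := by group
        _ = d * (⟨u, huC⟩ * (⟨ev gTh X5, ev_mem_sub c5⟩ : sub gTh isC)) * d⁻¹ := by rw [huX]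
        _ = _ := by group
    have hvo : orderOf v = 5 := by rw [hv, orderOf_conj', o5 h F]
    have h8 := ord_f h F Nat.prime_five (by norm_num) hvo
    rw [← h8]
    apply dvd_of_comm
    rw [← F.word X hX]
    have := congrArg (fun z => ((f z : alternatingGroup (Fin 9)) : Equiv.Perm (Fin 9))) hvX
    simpa using this
  obtain ⟨d, hd | hd | hd⟩ := exists_rep_three h F ho
  · exact hconj (congrArg Subtype.val hd)
  · have h8 := hno X33 c33 d hd
    rw [card33] at h8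
    norm_num at h8
  · have h8 := hno X333 c333 d hd
    rw [card333] at h8
    norm_num at h8

/-! ### Order 31 -/

theorem arith31 : ∀ e ∈ [1, 2, 3, 5, 6, 10, 15, 30], ∀ a ≤ 5,
    (90745943887872000 / (31 * 3 ^ a * e)) % 31 = 1 → a = 0 ∨ a = 1 := by
  decide +kernel

theorem div30 : ∀ e < 31, e ∣ 30 → e ∈ [1, 2, 3, 5, 6, 10, 15, 30] := by decide +kernel

/-- **the centralizer of an element of order 31** -/
theorem card_thirtyone {y : Spor.Th} (hy : orderOf y = 31) : Nat.card (centralizer ({y} : Set Spor.Th)) = 31 := by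
  have := fin_th
  have hcard := card_th
  obtain ⟨y', f, hy', hf, hfy⟩ := exists_thirtyone
  have hrr : ¬ 31 ^ 2 ∣ Nat.card Spor.Th := by rw [hcard]; norm_num
  rw [card_cent_eq (by norm_num) hrr hy' hy]
  obtain ⟨h13, h19, h36⟩ := thirtyone hy'
  obtain ⟨e, n, he, -, hn, hG⟩ := sylow_gen (by norm_num) hrr hy'
  have h2 : ¬ 2 ∣ Nat.card (centralizer ({y'} : Set Spor.Th)) := odd_cent (by norm_num) (by norm_num) hy'
  have h5 : ¬ 5 ∣ Nat.card (centralizer ({y'} : Set Spor.Th)) := not_dvd_five (by norm_num) (by norm_num) hy'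
  have h7 : ¬ 7 ∣ Nat.card (centralizer ({y'} : Set Spor.Th)) := by
    intro h
    obtain ⟨z, hz, hd⟩ := dvd_symm (by norm_num) h
    rw [hy', card_seven hz] at hd
    revert hd
    norm_num
  have h36' : ¬ 3 ^ 6 ∣ Nat.card (centralizer ({y'} : Set Spor.Th)) :=
    fun h => no_38 (Or.inr (Or.inr rfl)) hy' (h36 h)
  have h31 : 31 ∣ Nat.card (centralizer ({y'} : Set Spor.Th)) := by
    rw [← hy']
    exact dvd_of_comm rfl
  have hcG : Nat.card (centralizer ({y'} : Set Spor.Th)) ∣ 90745943887872000 := by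
    rw [← hcard]; exact Subgroup.card_subgroup_dvd_card _
  set c := Nat.card (centralizer ({y'} : Set Spor.Th)) with hc
  have k1 : c ∣ (3 ^ 10 * 7 ^ 2 * 13 * 19 * 31 * 5 ^ 3) * 2 ^ 15 := hcG.trans (by norm_num)
  have k2 : c ∣ (3 ^ 10 * 7 ^ 2 * 13 * 19 * 31) * 5 ^ 3 := dvd_of_not Nat.prime_two k1 h2
  have k3 : c ∣ (3 ^ 10 * 13 * 19 * 31) * 7 ^ 2 := (dvd_of_not (by norm_num) k2 h5).trans (by norm_num)
  have k4 : c ∣ (3 ^ 10 * 19 * 31) * 13 ^ 1 := (dvd_of_not (by norm_num) k3 h7).trans (by norm_num)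
  have k5 : c ∣ (3 ^ 10 * 31) * 19 ^ 1 := (dvd_of_not (by norm_num) k4 h13).trans (by norm_num)
  have k6 : c ∣ 31 * 3 ^ 10 := (dvd_of_not (by norm_num) k5 h19).trans (by norm_num)
  have k7 : c ∣ 31 * 3 ^ 5 := dvd_of_not_pow Nat.prime_three k6 h36'
  obtain ⟨c', hc'⟩ := h31
  obtain ⟨a, ha, rfl⟩ := (Nat.dvd_prime_pow Nat.prime_three).1
    (Nat.dvd_of_mul_dvd_mul_left (by norm_num : 0 < 31) (by rw [← hc']; exact k7))
  have he' : e ∈ [1, 2, 3, 5, 6, 10, 15, 30] :=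
    div30 e (Nat.lt_succ_of_le (Nat.le_of_dvd (by norm_num) he)) he
  have he0 : 0 < e := Nat.pos_of_dvd_of_pos he (by norm_num)
  have h01 := arith31 e he' a ha (by
    rw [← hcard, hG, ← hc', Nat.mul_div_cancel n (Nat.mul_pos Nat.card_pos he0)]
    exact hn)
  rcases h01 with rfl | rfl
  · rw [hc', pow_zero, mul_one]
  exfalso
  -- `f` normalises the centralizer
  have hfK : f ∈ normalizer (centralizer ({y'} : Set Spor.Th) : Set Spor.Th) := by
    have h1 : ∀ u, u ∈ centralizer ({y'} : Set Spor.Th) → f * u * f⁻¹ ∈ centralizer ({y'} : Set Spor.Th) := by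
      intro u hu
      have h2 := mem_cent_conj (g := f) hu
      rw [hfy] at h2
      rwa [cent_eq_of_zpowers (zpowers_eq (r := 31) (by norm_num) hy' (by
        rw [← hfy, orderOf_conj', hy']) (pow_mem (mem_zpowers y') 8))] at h2
    rw [Subgroup.mem_normalizer_iff]
    intro u
    refine ⟨h1 u, fun hu => ?_⟩
    have h2 : ∀ n : ℕ, f ^ n * (f * u * f⁻¹) * (f ^ n)⁻¹ ∈ centralizer ({y'} : Set Spor.Th) := by
      intro n
      induction n with
      | zero => rw [pow_zero, one_mul, inv_one, mul_one]; exact hu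
      | succ n ih =>
        have h3 := h1 _ ih
        rw [pow_succ', show f * f ^ n * (f * u * f⁻¹) * (f * f ^ n)⁻¹ = f * (f ^ n * (f * u * f⁻¹) * (f ^ n)⁻¹) * f⁻¹ by group]
        exact h3
    have h3 := h2 4
    rw [show f ^ 4 * (f * u * f⁻¹) * (f ^ 4)⁻¹ = f ^ 5 * u * (f ^ 5)⁻¹ by group, ← hf, pow_orderOf_eq_one, one_mul,
      inv_one, mul_one] at h3
    exact h3
  obtain ⟨T, hTK, hT, hfT, hdv⟩ := exists_inv (by norm_num) hf hfK h5 Nat.prime_three
  have hf3 : Fact (Nat.Prime 3) := ⟨Nat.prime_three⟩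
  have hm1 : Nat.card T = 3 := by
    obtain ⟨m, hm⟩ := IsPGroup.iff_card.1 hT
    have h1 : 3 ^ 1 ∣ Nat.card T := hdv 1 (by rw [← hc, hc', pow_one]; norm_num)
    have h2 : Nat.card T ∣ 31 * 3 ^ 1 := by rw [← hc', hc]; exact card_dvd_of_le hTK
    rw [hm] at h1 h2 ⊢
    have h3 : 1 ≤ m := (Nat.pow_dvd_pow_iff_le_right (by norm_num)).1 h1
    have h4 : m ≤ 1 := by
      by_contra h5
      have h6 : 3 ^ 2 ∣ 31 * 3 ^ 1 := (pow_dvd_pow 3 (by omega : 2 ≤ m)).trans h2
      revert h6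
      norm_num
    have h5 : m = 1 := le_antisymm h4 h3
    rw [h5, pow_one]
  have hmod := card_modEq (l := 5) (by norm_num) hf hfT
  have h3 : Nat.card (T ⊓ centralizer ({f} : Set Spor.Th) : Subgroup Spor.Th) = 3 := by
    have h4 : Nat.card (T ⊓ centralizer ({f} : Set Spor.Th) : Subgroup Spor.Th) ∣ 3 := by
      rw [← hm1]
      exact card_dvd_of_le inf_le_left
    rcases (Nat.dvd_prime Nat.prime_three).1 h4 with h5 | h5
    · rw [h5, hm1] at hmod
      exact absurd hmod (by decide)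
    · exact h5
  obtain ⟨x, hx, hx3⟩ := exists_of_dvd Nat.prime_three (dvd_of_eq h3.symm)
  obtain ⟨g, hg⟩ := three_of_five hx3 hf (mem_centralizer_singleton_iff.1 hx.2)
  have h8 : 31 ∣ Nat.card (centralizer ({x} : Set Spor.Th)) := by
    rw [← hy']
    exact dvd_of_comm (mem_centralizer_singleton_iff.1 (hTK hx.1)).symm
  rw [← card_cent_conj g x, hg] at h8
  obtain ⟨f', F⟩ := CpAutTh.Local.exists_epi KFacts.Th.Main.ctx
  exact H865.NH.Th.not_dvd_three KFacts.Th.Main.ctx F (by norm_num) (by norm_num) (by norm_num) h8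

end Cfsg.Agent.H491.PB.Th
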